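import Groth.Agent.L15.SubGrp.Image
import Groth.Agent.L08.SubgroupObj
import Groth.Agent.L16.SecComp.Smooth
import Groth.Agent.L26.AV.GroupSep
import Groth.Agent.L08.Borel.OverField
import Groth.Agent.L19.AlgGrpBasic.GeomPoint
import Groth.Agent.L25.Component
import Groth.Agent.L25.Locus.FixedConn
import Groth.Agent.L14.Chev.Cell.Space
import Mathlib.CategoryTheory.Monoidal.Cartesian.Grp

/-!
# The product of a torus with a subgroup normalised by it
-/

set_option autoImplicit false
set_option linter.unusedSectionVars false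
set_option linter.unusedTactic false
set_option linter.style.haveILetI false
set_option backward.isDefEq.respectTransparency.types false
set_option maxHeartbeats 1000000

universe u

open CategoryTheory CategoryTheory.Limits MonoidalCategory CartesianMonoidalCategory MonObj AlgebraicGeometry

noncomputable section

namespace Groth.L14.RootGrp

variable {k : Type u} [Field k]


/-- multiplication in a product -/
theorem lift_mul_pair {G B X : Over (Spec (CommRingCat.of k))} [GrpObj G] [GrpObj B] (x y : X ⟶ G ⊗ B) :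
    x * y = lift ((x ≫ fst G B) * (y ≫ fst G B)) ((x ≫ snd G B) * (y ≫ snd G B)) := by
  apply CartesianMonoidalCategory.hom_ext <;> simp [MonObj.mul_comp]

variable {G : Over (Spec (CommRingCat.of k))} [GrpObj G] (D : Red.SplitRed G) {U : Over (Spec (CommRingCat.of k))} [GrpObj U] (u : U ⟶ G) [IsMonHom u]
  [IsClosedImmersion u.left] [Smooth U.hom] [ConnectedSpace U.left]
  (hn : ∀ (X : Over (Spec (CommRingCat.of k))) (t : X ⟶ D.T) (x : X ⟶ U), ∃ x' : X ⟶ U,
    (t ≫ D.i) * (x ≫ u) * (t ≫ D.i)⁻¹ = x' ≫ u)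

include hn in
/-- the product is a subgroup which is smooth and connected -/
theorem exists_hull : ∃ (H : Over (Spec (CommRingCat.of k))) (_ : GrpObj H) (h : H ⟶ G) (_ : IsMonHom h) (t : D.T ⟶ H) (uH : U ⟶ H)
    (m : U ⊗ D.T ⟶ H), IsClosedImmersion h.left ∧ Smooth H.hom ∧ ConnectedSpace H.left ∧ t ≫ h = D.i ∧
      uH ≫ h = u ∧ Surjective m.left ∧ m ≫ h = (fst U D.T ≫ u) * (snd U D.T ≫ D.i) := by
  haveI := D.maximalTorus.1
  haveI : Mono u := Over.mono_of_mono_left u
  haveI := D.reductive.1
  haveI := D.reductive.2.1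
  haveI : IsAffineHom U.hom := by rw [← Over.w u]; infer_instance
  obtain ⟨hTs, hTc⟩ := Groth.L25.Locus.smooth_connected_torus D.maximalTorus.2.2.1
  haveI := hTs
  haveI := hTc
  haveI : IsAffineHom D.T.hom := (Groth.L14.Chev.Cell.affSmooth_torus D).1
  let P := U ⊗ D.T
  let m : P ⟶ G := (fst U D.T ≫ u) * (snd U D.T ≫ D.i)
  let j : P ⟶ G ⊗ D.T := lift m (snd U D.T)
  haveI : Mono j := ⟨fun {T} x y h => by
    have h1 := congrArg (· ≫ fst G D.T) h
    have h2 := congrArg (· ≫ snd G D.T) h
    simp only [j, m, Category.assoc, lift_fst, lift_snd, MonObj.comp_mul] at h1 h2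
    rw [← Category.assoc x (snd U D.T), h2, Category.assoc, mul_left_inj, ← Category.assoc, ← Category.assoc,
      cancel_mono] at h1
    exact CartesianMonoidalCategory.hom_ext _ _ h1 h2⟩
  have hone : ∃ z : 𝟙_ _ ⟶ P, z ≫ j = η[G ⊗ D.T] := by
    refine ⟨lift 1 1, ?_⟩
    rw [MonObj.one_eq_one]
    apply CartesianMonoidalCategory.hom_ext <;> simp [j, m, MonObj.comp_mul, MonObj.one_comp]
  have hmul : ∃ z : P ⊗ P ⟶ P, z ≫ j = (fst P P ≫ j) * (snd P P ≫ j) := by
    obtain ⟨x', hx'⟩ := hn (P ⊗ P) (fst P P ≫ snd U D.T) (snd P P ≫ fst U D.T)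
    refine ⟨lift ((fst P P ≫ fst U D.T) * x') ((fst P P ≫ snd U D.T) * (snd P P ≫ snd U D.T)), ?_⟩
    rw [lift_mul_pair]
    apply CartesianMonoidalCategory.hom_ext
    · simp only [j, m, Category.assoc, lift_fst, MonObj.comp_mul, lift_fst_assoc, lift_snd_assoc,
        MonObj.mul_comp, ← hx']
      group
    · simp [j]
  have hinv : ∃ z : P ⟶ P, z ≫ j = j⁻¹ := by
    obtain ⟨x', hx'⟩ := hn P (snd U D.T)⁻¹ (fst U D.T)⁻¹
    refine ⟨lift x' (snd U D.T)⁻¹, ?_⟩
    apply CartesianMonoidalCategory.hom_ext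
    · simp only [j, m, Category.assoc, lift_fst, lift_fst_assoc, lift_snd_assoc, MonObj.comp_mul,
        GrpObj.inv_comp, ← hx']
      group
    · simp [j, GrpObj.inv_comp]
  obtain ⟨gP, hj⟩ := Groth.L08.exists_grpObj_of_mono j hone hmul hinv
  have hmh : @IsMonHom _ _ _ P G gP.toMonObj _ m := by
    rw [show m = j ≫ fst G D.T from (lift_fst _ _).symm]
    exact @CategoryTheory.instIsMonHomComp _ _ _ P (G ⊗ D.T) G gP.toMonObj _ _ j (fst G D.T) hj inferInstance
  haveI : QuasiCompact U.hom := inferInstance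
  haveI : QuasiCompact D.T.hom := inferInstance
  haveI : QuasiCompact P.hom := Groth.L19.AlgGrpBasic.qc_tensor U D.T
  haveI : Smooth P.hom := inferInstanceAs (Smooth (pullback.fst U.hom D.T.hom ≫ U.hom))
  haveI := Groth.Agent.AV.isSeparated_of_grpObj G
  haveI : QuasiCompact (m.left ≫ G.hom) := by rw [Over.w]; infer_instance
  haveI : QuasiCompact m.left := QuasiCompact.of_comp m.left G.hom
  obtain ⟨H, gH, h, m', hh, hm', hfac, hc, hker, hqc, hsur⟩ :=
    @Groth.L15.SubGrp.exists_subgroup_image k _ P G gP _ m hmh inferInstance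
  haveI := hh
  haveI := hc
  haveI := hqc
  haveI := hsur
  haveI : IsSchemeTheoreticallyDominant m'.left := ⟨hker⟩
  haveI : IsReduced P.left := Groth.L16.SecComp.isReduced_of_smooth P.hom
  haveI : IsReduced H.left := IsSchemeTheoreticallyDominant.isReduced m'.left
  haveI : LocallyOfFiniteType H.hom := by rw [← Over.w h]; infer_instance
  have hs : Smooth H.hom :=
    @Groth.L08.Borel.smooth_of_surjective k _ P H gP gH inferInstance inferInstance inferInstance inferInstance
      m' hm' inferInstance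
  haveI : ConnectedSpace P.left := by
    haveI : IsLocallyNoetherian U.left := LocallyOfFiniteType.isLocallyNoetherian U.hom
    haveI : IsLocallyNoetherian D.T.left := LocallyOfFiniteType.isLocallyNoetherian D.T.hom
    haveI : IrreducibleSpace U.left := Groth.L25.Component.irreducibleSpace U
    haveI : IrreducibleSpace D.T.left := Groth.L25.Component.irreducibleSpace D.T
    haveI : GeometricallyIrreducible U.hom := Groth.L25.Component.geometricallyIrreducible U
    haveI : IrreducibleSpace (U ⊗ D.T).left := Groth.L19.AlgGrpBasic.irreducibleSpace_tensor U D.T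
    exact inferInstanceAs (ConnectedSpace (U ⊗ D.T).left)
  have hconn : ConnectedSpace H.left := m'.left.surjective.connectedSpace m'.left.continuous
  refine ⟨H, gH, h, hh, lift 1 (𝟙 D.T) ≫ m', lift (𝟙 U) 1 ≫ m', m', hc, hs, hconn, ?_, ?_, hsur, hfac⟩
  · rw [Category.assoc, hfac]
    simp [m, MonObj.comp_mul, MonObj.one_comp]
  · rw [Category.assoc, hfac]
    simp [m, MonObj.comp_mul, MonObj.one_comp]

end Groth.L14.RootGrp
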