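import Groth.Prelude.Def_LieS
import Mathlib.AlgebraicGeometry.Morphisms.FiniteType
import Mathlib.AlgebraicGeometry.Morphisms.ClosedImmersion
import Mathlib.RingTheory.Idempotents
import Mathlib.RingTheory.Ideal.IdempotentFG
import Mathlib.RingTheory.Spectrum.Prime.Topology
import Mathlib.LinearAlgebra.Dual.Lemmas

/-!
# Connected affine schemes of finite type without tangent vectors at a rational point
-/

set_option autoImplicit false
set_option linter.style.haveILetI false
set_option backward.isDefEq.respectTransparency.types false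

universe u

open CategoryTheory CategoryTheory.Limits AlgebraicGeometry

noncomputable section

namespace Groth.L14.RootGrp

variable {k : Type u} [Field k]

/-- a rational point of a connected algebra without point derivations is the only point -/
theorem ker_eq_bot_of_no_tangent {A : Type u} [CommRing A] [Algebra k A] [Algebra.FiniteType k A]
    [ConnectedSpace (PrimeSpectrum A)] (ε : A →ₐ[k] k)
    (h : ∀ δ : A →ₐ[k] DualNumber k, (∀ a, (δ a).fst = ε a) → ∀ a, (δ a).snd = 0) :
    RingHom.ker ε.toRingHom = ⊥ := by
  haveI : IsNoetherianRing A := Algebra.FiniteType.isNoetherianRing k A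
  let I : Ideal A := RingHom.ker ε.toRingHom
  have hII : IsIdempotentElem I := by
    refine le_antisymm Ideal.mul_le_left fun a ha => ?_
    by_contra hna
    obtain ⟨f, hfa, hf⟩ := Submodule.exists_dual_map_eq_bot_of_notMem (p := (I * I).restrictScalars k)
      (x := a) hna inferInstance
    have hf' : ∀ x ∈ I * I, f x = 0 := fun x hx => by
      have : f x ∈ Submodule.map f ((I * I).restrictScalars k) := ⟨x, hx, rfl⟩
      rw [hf] at this
      exact this
    let L : A →ₗ[k] k := f.comp (LinearMap.id - (Algebra.linearMap k A).comp ε.toLinearMap)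
    have hL : ∀ x, L x = f (x - algebraMap k A (ε x)) := fun x => rfl
    have hmul : ∀ x y, L (x * y) = ε x * L y + L x * ε y := fun x y => by
      have e : x * y - algebraMap k A (ε (x * y)) = ε x • (y - algebraMap k A (ε y)) +
          ε y • (x - algebraMap k A (ε x)) + (x - algebraMap k A (ε x)) * (y - algebraMap k A (ε y)) := by
        simp only [Algebra.smul_def, map_mul]
        ring
      rw [hL, e, map_add, map_add, map_smul, map_smul, hf' _ (Ideal.mul_mem_mul (by simp [I]) (by simp [I]))]
      simp [hL, mul_comm]
    let δ : A →ₐ[k] DualNumber k :=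
      { toFun := fun x => ((ε x, L x) : TrivSqZeroExt k k)
        map_one' := by
          refine TrivSqZeroExt.ext (map_one ε) ?_
          show L 1 = 0
          simp [hL]
        map_mul' := fun x y => by
          refine TrivSqZeroExt.ext (map_mul ε x y) ?_
          show L (x * y) = _
          rw [DualNumber.snd_mul, hmul]
          rfl
        map_zero' := TrivSqZeroExt.ext (map_zero ε) (map_zero L)
        map_add' := fun x y => TrivSqZeroExt.ext (map_add ε x y) (map_add L x y)
        commutes' := fun c => by
          refine TrivSqZeroExt.ext (ε.commutes c) ?_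
          show L (algebraMap k A c) = 0
          simp [hL] }
    refine hfa ?_
    have h1 : L a = 0 := h δ (fun _ => rfl) a
    have h2 : ε a = 0 := ha
    rwa [hL, h2, map_zero, sub_zero] at h1
  obtain ⟨e, he, heI⟩ := (Ideal.isIdempotentElem_iff_of_fg I (IsNoetherian.noetherian I)).1 hII
  have hc := (PrimeSpectrum.isClopen_iff (s := (PrimeSpectrum.basicOpen e : Set (PrimeSpectrum A)))).2 ⟨e, he, rfl⟩
  rcases isClopen_iff.1 hc with h0 | h1
  · have : e = 0 := PrimeSpectrum.basicOpen_injOn_isIdempotentElem he IsIdempotentElem.zero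
      (TopologicalSpace.Opens.ext (h0.trans (by simp)))
    show I = ⊥
    rw [heI, this]
    simp
  · have : e = 1 := PrimeSpectrum.basicOpen_injOn_isIdempotentElem he IsIdempotentElem.one
      (TopologicalSpace.Opens.ext (h1.trans (by simp)))
    exfalso
    have h2 : e ∈ I := heI ▸ Submodule.mem_span_singleton_self e
    rw [this] at h2
    simp [I] at h2

/-- a connected affine scheme of finite type with a rational point without tangent vectors is the point -/
theorem eq_of_no_tangent {W : Over (Spec (CommRingCat.of k))} [IsAffine W.left] [LocallyOfFiniteType W.hom]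
    [ConnectedSpace W.left] (w0 : LieS.pt k (Spec.map (CommRingCat.ofHom (algebraMap k k))) ⟶ W)
    (h : ∀ z : LieS.dpt k (Spec.map (CommRingCat.ofHom (algebraMap k k))) ⟶ W,
      LieS.zeroSec k _ ≫ z = w0 → z = LieS.proj k _ ≫ w0)
    {X : Over (Spec (CommRingCat.of k))} (x y : X ⟶ W) : x = y := by
  let A : CommRingCat.{u} := Γ(W.left, ⊤)
  let φ : CommRingCat.of k ⟶ A := Spec.preimage (W.left.isoSpec.inv ≫ W.hom)
  have hφ : Spec.map φ = W.left.isoSpec.inv ≫ W.hom := Spec.map_preimage _
  letI : Algebra k A := φ.hom.toAlgebra
  haveI : Algebra.FiniteType k A :=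
    (HasRingHomProperty.Spec_iff (P := @LocallyOfFiniteType)).1 (hφ ▸ inferInstance : LocallyOfFiniteType (Spec.map φ))
  haveI : ConnectedSpace (PrimeSpectrum A) := W.left.isoSpec.hom.homeomorph.surjective.connectedSpace
    W.left.isoSpec.hom.homeomorph.continuous
  let e : A ⟶ CommRingCat.of k := Spec.preimage (w0.left ≫ W.left.isoSpec.hom)
  have he : Spec.map e = w0.left ≫ W.left.isoSpec.hom := Spec.map_preimage _
  have hek : φ ≫ e = CommRingCat.ofHom (algebraMap k k) := Spec.map_injective (by
    rw [Spec.map_comp, he, hφ, Category.assoc, Iso.hom_inv_id_assoc]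
    exact Over.w w0)
  let ε : A →ₐ[k] k := { e.hom with commutes' := fun c => congrArg (fun q => q.hom c) hek }
  have hker := ker_eq_bot_of_no_tangent ε fun δ hδ a => by
    let z : LieS.dpt k (Spec.map (CommRingCat.ofHom (algebraMap k k))) ⟶ W :=
      Over.homMk (Spec.map (CommRingCat.ofHom δ.toRingHom) ≫ W.left.isoSpec.inv) (by
        show (Spec.map (CommRingCat.ofHom δ.toRingHom) ≫ W.left.isoSpec.inv) ≫ W.hom =
          Spec.map (CommRingCat.ofHom (algebraMap k (DualNumber k))) ≫ Spec.map (CommRingCat.ofHom (algebraMap k k))
        refine (Category.assoc _ _ _).trans ((congrArg _ hφ.symm).trans ?_)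
        refine (Spec.map_comp _ _).symm.trans (Eq.trans ?_ (Spec.map_comp _ _))
        refine congrArg Spec.map (CommRingCat.hom_ext (RingHom.ext fun c => ?_))
        exact δ.commutes c)
    have h1 : LieS.zeroSec k _ ≫ z = w0 := by
      refine Over.OverMorphism.ext ?_
      show Spec.map _ ≫ Spec.map _ ≫ W.left.isoSpec.inv = w0.left
      rw [← Category.assoc, ← Spec.map_comp, Iso.comp_inv_eq, ← he]
      exact congrArg Spec.map (CommRingCat.hom_ext (RingHom.ext fun c => hδ c))
    have h2 := congrArg (fun q => q.left ≫ W.left.isoSpec.hom) (h z h1)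
    simp only [z, Over.homMk_left, Category.assoc, Iso.inv_hom_id, Category.comp_id] at h2
    rw [show (LieS.proj k _ ≫ w0).left ≫ W.left.isoSpec.hom =
      Spec.map (e ≫ CommRingCat.ofHom (algebraMap k (DualNumber k))) by
        rw [Spec.map_comp, he, Over.comp_left, Category.assoc]; rfl] at h2
    have h3 := congrArg (fun q => TrivSqZeroExt.snd (q.hom a)) (Spec.map_injective h2)
    exact h3.trans (TrivSqZeroExt.snd_inl _ _)
  have hsurj : Function.Surjective φ.hom := fun a => ⟨ε a, by
    refine (RingHom.injective_iff_ker_eq_bot ε.toRingHom).2 hker ?_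
    exact ε.commutes _⟩
  haveI := IsClosedImmersion.spec_of_surjective φ hsurj
  haveI : Mono W.hom := by
    rw [← Iso.hom_inv_id_assoc W.left.isoSpec W.hom, ← hφ]
    exact mono_comp _ _
  exact Over.OverMorphism.ext ((cancel_mono W.hom).1 ((Over.w x).trans (Over.w y).symm))

end Groth.L14.RootGrp
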