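import Groth.Agent.L14.RootGrp.Hull
import Groth.Agent.L14.NRQuot.Closed
import Groth.Agent.L14.Chev.Cell.Isolate
import Groth.Agent.L19.AlgGrpBasic.Points
import Mathlib.RingTheory.Polynomial.Basic
import Mathlib.FieldTheory.IsAlgClosed.AlgebraicClosure
import Mathlib.RingTheory.Localization.FractionRing

/-!
# A root group in the hull lies in the subgroup normalised by the torus
-/

set_option autoImplicit false
set_option linter.unusedSectionVars false
set_option linter.style.haveILetI false
set_option backward.isDefEq.respectTransparency.types false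
set_option maxHeartbeats 1000000

universe u

open CategoryTheory CategoryTheory.Limits MonoidalCategory CartesianMonoidalCategory MonObj AlgebraicGeometry
open Groth.L25 Groth.L14.RankOne Groth.L14.Chart Groth.L14.Chev.Cell

noncomputable section

namespace Groth.L14.RootGrp

variable {k : Type u} [Field k] {G : Over (Spec (CommRingCat.of k))} [GrpObj G] (D : Red.SplitRed G)
  {U : Over (Spec (CommRingCat.of k))} [GrpObj U] {iU : U ⟶ G} [IsMonHom iU] [IsClosedImmersion iU.left]
  (hn : ∀ (X : Over (Spec (CommRingCat.of k))) (t : X ⟶ D.T) (x : X ⟶ U), ∃ x' : X ⟶ U,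
    (t ≫ D.i) * (x ≫ iU) * (t ≫ D.i)⁻¹ = x' ≫ iU)

/-- the torus commutes -/
theorem torus_comm {X : Over (Spec (CommRingCat.of k))} (a b : X ⟶ D.T) : a * b = b * a := by
  haveI : IsMonHom D.split.hom.hom.hom := D.split.hom.hom.isMonHom_hom
  have hinj : Function.Injective (fun t : X ⟶ D.T => t ≫ D.split.hom.hom.hom) := fun s t h => by
    have h' : s ≫ D.split.hom.hom.hom ≫ D.split.inv.hom.hom = t ≫ D.split.hom.hom.hom ≫ D.split.inv.hom.hom := by
      rw [← Category.assoc, ← Category.assoc]
      exact congrArg (· ≫ D.split.inv.hom.hom) h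
    rwa [split_hom_inv, Category.comp_id, Category.comp_id] at h'
  apply hinj
  simp only [MonObj.mul_comp]
  refine DSPts.char_injective ?_
  rw [DSPts.char_mul, DSPts.char_mul, mul_comm]

/-- the tautological point is surjective -/
theorem surjective_gpX : Function.Surjective
    (gp (R := k) (𝟙 (Spec (CommRingCat.of k))) (Polynomial.X : Polynomial k)).left.base := by
  intro q
  let Ga := Red.Ga (Spec (CommRingCat.of k))
  let f : Spec (Ga.left.residueField q) ⟶ Spec (CommRingCat.of k) := Ga.left.fromSpecResidueField q ≫ Ga.hom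
  let K : Type u := Ga.left.residueField q
  letI : Algebra k K := (Spec.preimage f).hom.toAlgebra
  let t : Sp (𝟙 (Spec (CommRingCat.of k))) K ⟶ Ga := Over.homMk (Ga.left.fromSpecResidueField q) (by
    show f = Spec.map (CommRingCat.ofHom (algebraMap k K)) ≫ 𝟙 _
    rw [Category.comp_id]
    exact (Spec.map_preimage f).symm)
  have ht : mor (𝟙 (Spec (CommRingCat.of k))) (Polynomial.aeval (gv t) : Polynomial k →ₐ[k] K) ≫
      gp (𝟙 (Spec (CommRingCat.of k))) (Polynomial.X : Polynomial k) = t := by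
    rw [mor_gp, Polynomial.aeval_X, gp_gv]
  let pt₀ : (Sp (𝟙 (Spec (CommRingCat.of k))) K).left := IsLocalRing.closedPoint K
  exact ⟨_, (congrArg (fun z : Sp (𝟙 (Spec (CommRingCat.of k))) K ⟶ Ga => z.left pt₀) ht).trans
    (Scheme.fromSpecResidueField_apply q _)⟩

include hn in
/-- a root group factoring through the hull factors through the subgroup -/
theorem exists_lift_root [Smooth U.hom] {H : Over (Spec (CommRingCat.of k))} (h : H ⟶ G)
    (m : U ⊗ D.T ⟶ H) (hm : Surjective m.left) (hmh : m ≫ h = (fst U D.T ≫ iU) * (snd U D.T ≫ D.i))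
    (c : D.idx) (v : Red.Ga (Spec (CommRingCat.of k)) ⟶ H) (hv : v ≫ h = D.u c) :
    ∃ w : Red.Ga (Spec (CommRingCat.of k)) ⟶ U, w ≫ iU = D.u c := by
  haveI := D.maximalTorus.1
  haveI := hm
  haveI : ∀ a, IsMonHom (D.u a) := fun a => (D.rootHom a).1
  let P := Polynomial k
  let Ω : Type u := AlgebraicClosure (FractionRing P)
  let j := 𝟙 (Spec (CommRingCat.of k))
  let inc : P →ₐ[k] Ω := IsScalarTower.toAlgHom k P Ω
  have hinc : Function.Injective inc := by
    show Function.Injective (algebraMap P Ω)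
    rw [IsScalarTower.algebraMap_eq P (FractionRing P) Ω]
    exact (algebraMap (FractionRing P) Ω).injective.comp (IsFractionRing.injective P (FractionRing P))
  let w : Ω := inc Polynomial.X + 1
  have hw : w ≠ 0 := fun e => Polynomial.X_add_C_ne_zero (1 : k) (hinc (by
    rw [map_add, Polynomial.C_1, map_one, map_zero]
    exact e))
  obtain ⟨χ, hχ⟩ := exists_char_eq (D := D) c hw
  haveI : LocallyOfFiniteType (U ⊗ D.T).hom := by
    haveI := (affSmooth_torus D).2
    exact inferInstanceAs (LocallyOfFiniteType (pullback.fst U.hom D.T.hom ≫ U.hom))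
  obtain ⟨p, hp⟩ := Groth.L14.NRQuot.exists_lift_point m (Sp j Ω) (Iso.refl _) (gp j (1 : Ω) ≫ v)
  have h1 : gp j (1 : Ω) ≫ D.u c = (p ≫ fst U D.T ≫ iU) * (p ≫ snd U D.T ≫ D.i) := by
    rw [← hv, ← Category.assoc, ← hp, Category.assoc, hmh, MonObj.comp_mul]
  obtain ⟨x', hx'⟩ := hn _ (tpt D j χ) (p ≫ fst U D.T)
  have h2 : gp j w ≫ D.u c = (x' ≫ iU) * (p ≫ snd U D.T ≫ D.i) := by
    have := conj_root j D.rootHom χ c (1 : Ω)
    rw [hχ, _root_.mul_one] at this
    rw [← this, h1, ← hx', Category.assoc]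
    have hc : (tpt D j χ ≫ D.i) * (p ≫ snd U D.T ≫ D.i) = (p ≫ snd U D.T ≫ D.i) * (tpt D j χ ≫ D.i) := by
      rw [← Category.assoc p, ← MonObj.mul_comp, ← MonObj.mul_comp, torus_comm]
    calc _ = (tpt D j χ ≫ D.i) * (p ≫ fst U D.T ≫ iU) *
        ((p ≫ snd U D.T ≫ D.i) * (tpt D j χ ≫ D.i)⁻¹) := by group
      _ = (tpt D j χ ≫ D.i) * (p ≫ fst U D.T ≫ iU) *
        ((tpt D j χ ≫ D.i)⁻¹ * (p ≫ snd U D.T ≫ D.i)) := by
          congr 1
          exact (Commute.inv_left hc).eq.symm
      _ = _ := by group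
  have h3 : gp j (inc Polynomial.X) ≫ D.u c = (x' * (p ≫ fst U D.T)⁻¹) ≫ iU := by
    rw [show inc Polynomial.X = w + -1 from (add_neg_cancel_right _ _).symm, gp_add, gp_neg, MonObj.mul_comp, GrpObj.inv_comp, h2, h1,
      MonObj.mul_comp, GrpObj.inv_comp, Category.assoc]
    group
  -- the generic point
  let g : Sp j P ⟶ G := gp j (Polynomial.X : P) ≫ D.u c
  have hg : mor j inc ≫ g = gp j (inc Polynomial.X) ≫ D.u c := by rw [← Category.assoc, mor_gp]
  have hdense : DenseRange (mor j inc).left.base :=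
    PrimeSpectrum.denseRange_comap_iff_ker_le_nilRadical _ |>.2 fun z hz => by
      have : z = 0 := hinc (hz.trans (map_zero inc).symm)
      rw [this]
      exact zero_mem _
  have hsub : Set.range g.left.base ⊆ Set.range iU.left.base := by
    refine (g.left.continuous.range_subset_closure_image_dense hdense).trans ?_
    refine closure_minimal ?_ iU.left.isClosedEmbedding.isClosed_range
    rintro _ ⟨_, ⟨z, rfl⟩, rfl⟩
    refine ⟨(x' * (p ≫ fst U D.T)⁻¹).left z, ?_⟩
    exact ((congrArg (fun q : Sp j Ω ⟶ G => q.left z) (hg.trans h3))).symm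
  haveI : IsReduced (Red.Ga (Spec (CommRingCat.of k))).left := by
    haveI := (affSmooth_ga (S := Spec (CommRingCat.of k))).2
    exact Groth.L16.SecComp.isReduced_of_smooth (Red.Ga (Spec (CommRingCat.of k))).hom
  refine Groth.L19.AlgGrpBasic.exists_lift_of_range iU (D.u c) ?_
  rintro _ ⟨q, rfl⟩
  obtain ⟨y, rfl⟩ := surjective_gpX (k := k) q
  exact hsub ⟨y, rfl⟩

end Groth.L14.RootGrp
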