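import Groth.Agent.L14.RootGrp.Weights
import Groth.Agent.L14.RootGrp.NoTangent
import Groth.Agent.L14.RootGrp.Root
import Groth.Agent.L14.TypeR.Borel
import Groth.Agent.L14.TypeR.BorelUnip
import Groth.Agent.L14.Chev.Cell.Closed
import Groth.Agent.L14.Luna.SemiRank.SplitField
import Groth.Agent.L19.AlgGrpBasic.Points

/-!
# Smooth connected subgroups normalised by the torus whose Lie algebra is a root space
-/

set_option autoImplicit false
set_option linter.unusedSectionVars false
set_option linter.style.haveILetI false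
set_option backward.isDefEq.respectTransparency.types false
set_option maxHeartbeats 1000000

universe u

open CategoryTheory CategoryTheory.Limits MonoidalCategory CartesianMonoidalCategory MonObj AlgebraicGeometry
open Groth.L25 Groth.L14.RankOne Groth.L14.Chart Groth.L14.Chev.Cell

noncomputable section

namespace Groth.L14.RootGrp

theorem prodMap_comp {S : Scheme.{u}} {X G G' : Over S} [GrpObj G] [GrpObj G'] (φ : G' ⟶ G) [IsMonHom φ] :
    ∀ {n : ℕ} (f : Fin n → (X ⟶ G')), RedSub.prodMap X n f ≫ φ = RedSub.prodMap X n fun l => f l ≫ φ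
  | 0, f => MonObj.one_comp φ
  | n + 1, f => by
    show (_ * _ : X ⊗ RedSub.pow X n ⟶ G') ≫ φ = _
    refine (MonObj.mul_comp _ _ φ).trans ?_
    rw [Category.assoc, Category.assoc, prodMap_comp φ fun l => f l.succ]
    rfl

variable {k : Type u} [Field k] {G : Over (Spec (CommRingCat.of k))} [GrpObj G] (D : Red.SplitRed G)

/-- roots have no double -/
theorem root_add_self (a c : D.idx) : D.P.root a + D.P.root a ≠ D.P.root c := fun h => by
  haveI : D.P.IsReduced := Groth.L14.Luna.SemiRank.isReduced_splitRed D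
  haveI : Module.IsTorsionFree ℤ D.M := inferInstance
  have hdep : ¬ LinearIndependent ℤ ![D.P.root a, D.P.root c] := fun hl => by
    have := (LinearIndependent.pair_iff.1 hl) 2 (-1) (by rw [two_smul, h]; simp)
    exact absurd this.1 (by norm_num)
  rcases RootPairing.IsReduced.eq_or_eq_neg a c hdep with e | e
  · rw [← e] at h
    exact D.P.ne_zero a (add_eq_left.1 h)
  · rw [e] at h
    have h3 : (3 : ℤ) • D.P.root c = 0 := by
      rw [show (3 : ℤ) • D.P.root c = D.P.root c + D.P.root c + D.P.root c by module]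
      rw [← sub_eq_zero.2 h.symm]
      abel
    exact D.P.ne_zero c ((smul_eq_zero.1 h3).resolve_left (by norm_num))

/-- distinct roots have distinct characters -/
theorem root_char_injective : Function.Injective fun a : D.idx =>
    D.split.hom.hom.hom ≫ Red.chi (Spec (CommRingCat.of k)) (D.P.root a) := by
  intro a b h
  have h1 : Red.chi (Spec (CommRingCat.of k)) (D.P.root a) = Red.chi (Spec (CommRingCat.of k)) (D.P.root b) := by
    have := congrArg (D.split.inv.hom.hom ≫ ·) h
    simpa only [← Category.assoc, split_inv_hom, Category.id_comp] using this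
  refine D.P.root.injective ?_
  simpa using DFunLike.congr_fun (Groth.Agent.S14754.DSmap_injective h1) (1 : ℤ)

/-- a smooth connected subgroup normalised by the torus whose Lie algebra is a root space is a root group -/
theorem exists_eq_rootGroup {U : Over (Spec (CommRingCat.of k))} [GrpObj U] (iU : U ⟶ G) [IsMonHom iU]
    [IsClosedImmersion iU.left] [Smooth U.hom] [ConnectedSpace U.left]
    (hn : ∀ (X : Over (Spec (CommRingCat.of k))) (t : X ⟶ D.T) (x : X ⟶ U), ∃ x' : X ⟶ U,
      (t ≫ D.i) * (x ≫ iU) * (t ≫ D.i)⁻¹ = x' ≫ iU)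
    (α : D.T ⟶ Red.Gm (Spec (CommRingCat.of k))) [IsMonHom α] (hα : α ≠ 1)
    (hne : LieWt.weightSpOf D.i α k ≠ ⊥)
    (hl : Subgroup.map (LieS.map k _ iU) ⊤ = LieWt.weightSpOf D.i α k) :
    ∃ a : D.idx, α = D.split.hom.hom.hom ≫ Red.chi (Spec (CommRingCat.of k)) (D.P.root a) ∧
      ∃ w : Red.Ga (Spec (CommRingCat.of k)) ≅ U, IsMonHom w.hom ∧ w.hom ≫ iU = D.u a := by
  classical
  haveI := D.maximalTorus.1
  haveI := D.reductive.1
  haveI := D.reductive.2.1
  haveI : IsAffine G.left := isAffine_of_isAffineHom G.hom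
  haveI : Mono iU := Over.mono_of_mono_left iU
  haveI : Mono D.i := D.maximalTorus.2.1
  haveI : ∀ c, IsMonHom (D.u c) := fun c => (D.rootHom c).1
  haveI : ∀ c, Mono (D.u c) := fun c => by
    haveI := (D.rootHom c).2.1
    exact Over.mono_of_mono_left (D.u c)
  obtain ⟨C⟩ := Groth.L06.RootLines.exists_coords D.reductive D.maximalTorus (⟨D.split⟩ : Red.IsSplitTorusWith D.M D.T)
  obtain ⟨H, gH, h, hh, t, uH, mm, hc, hs, hconn, ht, huH, hmm, hmmh⟩ := exists_hull D iU hn
  letI := gH
  haveI := hh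
  haveI := hc
  haveI := hs
  haveI := hconn
  -- roots of the hull
  let R' : Set D.idx := {a | ∃ v : Red.Ga (Spec (CommRingCat.of k)) ⟶ H, v ≫ h = D.u a}
  have hR : ∀ a ∈ R', (∃ w : Red.Ga (Spec (CommRingCat.of k)) ⟶ U, w ≫ iU = D.u a) ∧
      D.split.hom.hom.hom ≫ Red.chi (Spec (CommRingCat.of k)) (D.P.root a) = α := by
    rintro a ⟨v, hv⟩
    obtain ⟨w, hw⟩ := exists_lift_root D hn h mm hmm hmmh a v hv
    refine ⟨⟨w, hw⟩, ?_⟩
    haveI : IsMonHom D.split.hom.hom.hom := D.split.hom.hom.isMonHom_hom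
    haveI : IsMonHom (Red.chi (Spec (CommRingCat.of k)) (D.P.root a)) :=
      TorusTorsion.isMonHom_DSmap _ _
    by_contra hne'
    exact tanVec_ne_one (D.u a) (eq_one_of_weights C hne' (tanVec_mem (D.rootHom a))
      (hl ▸ tanVec_mem_range hw))
  have hsing : ∀ a ∈ R', ∀ b ∈ R', a = b := fun a ha b hb =>
    root_char_injective D ((hR a ha).2.trans (hR b hb).2.symm)
  obtain ⟨b, hb⟩ := exists_base_of_noOpp (D := D) (Ψ := R')
    ⟨fun a a' c ha ha' he => absurd (hsing a ha a' ha' ▸ he) (root_add_self D _ c), fun a c ha he hc' => by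
      rw [hsing c hc' a ha] at he
      exact D.P.ne_zero a (by
        have h2 : (2 : ℤ) • D.P.root a = 0 := by rw [two_smul]; nth_rw 1 [he]; exact neg_add_cancel _
        exact (smul_eq_zero.1 h2).resolve_left (by norm_num))⟩
  obtain ⟨m, e, he⟩ := exists_enum (D := D) R'
  obtain ⟨φ, hφ⟩ := Groth.L14.TypeR.exists_borel_iso (D := D) (h := h) (inferInstance : IsImmersion h.left)
    (Groth.L14.TypeR.hasConnectedFibres_field H) t ht (fun a => Iff.rfl) hb he
  haveI : Mono h := Over.mono_of_mono_left h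
  haveI : Mono (RedSub.borelMap D e) := hφ ▸ mono_comp φ.hom h
  let τ₀ : U ⟶ D.T := uH ≫ φ.inv ≫ fst _ _
  let c₀ : U ⟶ RedSub.pow (Red.Ga (Spec (CommRingCat.of k))) m := uH ≫ φ.inv ≫ snd _ _
  have hdec : iU = (τ₀ ≫ D.i) * (c₀ ≫ RedSub.prodMap (Red.Ga (Spec (CommRingCat.of k))) m fun l => D.u (e l)) := by
    conv_lhs => rw [← huH, ← Iso.inv_hom_id_assoc φ h, hφ]
    simp only [RedSub.borelMap, MonObj.comp_mul, τ₀, c₀, Category.assoc]
  -- the intersection with the torus
  have key : ∀ q : RedSub.pow (Red.Ga (Spec (CommRingCat.of k))) m ⟶ U,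
      q ≫ iU = (RedSub.prodMap (Red.Ga (Spec (CommRingCat.of k))) m fun l => D.u (e l)) → c₀ ≫ q = 𝟙 U := by
    intro q hq
    let W : Over (Spec (CommRingCat.of k)) := Over.mk (pullback.fst iU.left D.i.left ≫ U.hom)
    let wU : W ⟶ U := Over.homMk (pullback.fst iU.left D.i.left) rfl
    let wT : W ⟶ D.T := Over.homMk (pullback.snd iU.left D.i.left) (by
      show pullback.snd iU.left D.i.left ≫ D.T.hom = pullback.fst iU.left D.i.left ≫ U.hom
      rw [← Over.w D.i, ← Over.w iU, pullback.condition_assoc])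
    have hW : wU ≫ iU = wT ≫ D.i := Over.OverMorphism.ext pullback.condition
    have hWlift : ∀ {X : Over (Spec (CommRingCat.of k))} (x : X ⟶ U) (s : X ⟶ D.T), x ≫ iU = s ≫ D.i →
        ∃ z : X ⟶ W, z ≫ wU = x ∧ z ≫ wT = s := fun x s hxs => by
      refine ⟨Over.homMk (pullback.lift x.left s.left (congrArg CommaMorphism.left hxs)) ?_, ?_, ?_⟩
      · show pullback.lift _ _ _ ≫ pullback.fst _ _ ≫ U.hom = _
        rw [pullback.lift_fst_assoc, Over.w]
      · exact Over.OverMorphism.ext (pullback.lift_fst _ _ _)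
      · exact Over.OverMorphism.ext (pullback.lift_snd _ _ _)
    haveI : IsClosedImmersion wT.left := inferInstanceAs (IsClosedImmersion (pullback.snd iU.left D.i.left))
    haveI : Mono wT := Over.mono_of_mono_left wT
    haveI : IsAffineHom D.T.hom := (affSmooth_torus D).1
    haveI : Smooth D.T.hom := (affSmooth_torus D).2
    haveI : IsAffine D.T.left := isAffine_of_isAffineHom D.T.hom
    haveI : IsAffine W.left := isAffine_of_isAffineHom wT.left
    haveI : LocallyOfFiniteType W.hom := by rw [← Over.w wT]; infer_instance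
    have hq' : τ₀ ≫ D.i = (𝟙 U * (c₀ ≫ q)⁻¹) ≫ iU := by
      conv_rhs => rw [MonObj.mul_comp, Category.id_comp, GrpObj.inv_comp, Category.assoc, hq, hdec]
      group
    obtain ⟨ρ, hρU, hρT⟩ := hWlift _ _ hq'.symm
    have hwρ : wU ≫ ρ = 𝟙 W := by
      rw [← cancel_mono wT, Category.assoc, hρT, Category.id_comp]
      let o : W ⟶ RedSub.pow (Red.Ga (Spec (CommRingCat.of k))) m := tup m fun _ => 1
      have e1 : lift wT o ≫ RedSub.borelMap D e = (wU ≫ uH ≫ φ.inv) ≫ RedSub.borelMap D e := by
        rw [comp_borelMap, ← hφ]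
        simp only [Category.assoc, Iso.inv_hom_id_assoc, huH, hW, lift_fst, lift_snd, o, tup_proj, MonObj.one_comp, List.ofFn_const, List.prod_replicate, one_pow,
          _root_.mul_one]
      have := congrArg (· ≫ fst _ _) ((cancel_mono _).1 e1)
      simp only [lift_fst, Category.assoc] at this
      exact this.symm
    haveI : ConnectedSpace W.left := by
      haveI : Surjective ρ.left := ⟨fun z => ⟨wU.left z,
        congrArg (fun f : W ⟶ W => f.left z) hwρ⟩⟩
      exact ρ.left.surjective.connectedSpace ρ.left.continuous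
    obtain ⟨w0, hw0U, hw0T⟩ := hWlift (1 : LieS.pt k (Spec.map (CommRingCat.ofHom (algebraMap k k))) ⟶ U) 1
      (by rw [MonObj.one_comp, MonObj.one_comp])
    have hall : ∀ {X : Over (Spec (CommRingCat.of k))} (x y : X ⟶ W), x = y := fun x y =>
      eq_of_no_tangent w0 (fun z hz => by
        rw [← cancel_mono wT, Category.assoc, hw0T, MonObj.comp_one]
        let zU : LieS.LieR U k := ⟨z ≫ wU, by
          rw [LieS.mem_Lie_iff, ← Category.assoc, hz, hw0U]⟩
        let zT : LieS.LieR D.T k := ⟨z ≫ wT, by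
          rw [LieS.mem_Lie_iff, ← Category.assoc, hz, hw0T]⟩
        have h1 : LieS.map k _ iU zU = LieS.map k _ D.i zT := Subtype.ext (by
          show (z ≫ wU) ≫ iU = (z ≫ wT) ≫ D.i
          rw [Category.assoc, Category.assoc, hW])
        have h2 : LieS.map k _ iU zU ∈ LieWt.weightSpOf D.i α k := hl ▸ ⟨zU, trivial, rfl⟩
        have h3 : LieS.map k _ iU zU ∈ LieWt.weightSpOf D.i (1 : D.T ⟶ Red.Gm (Spec (CommRingCat.of k))) k :=
          h1 ▸ map_mem_fixed (fun X a b => torus_comm D a b) zT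
        have h4 := congrArg Subtype.val (h1.symm.trans (eq_one_of_weights C hα h2 h3))
        change (z ≫ wT) ≫ D.i = 1 at h4
        rw [← MonObj.one_comp D.i, cancel_mono] at h4
        exact h4) x y
    have hτ : τ₀ = 1 := by
      obtain ⟨z1, -, hz1⟩ := hWlift (1 : U ⟶ U) (1 : U ⟶ D.T) (by rw [MonObj.one_comp, MonObj.one_comp])
      rw [← hρT, ← hz1, hall ρ z1]
    rw [← cancel_mono iU, Category.assoc, hq, Category.id_comp]
    conv_rhs => rw [hdec, hτ, MonObj.one_comp, _root_.one_mul]
  -- there is a root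
  by_cases hemp : R' = ∅
  · exfalso
    obtain rfl : m = 0 := by
      by_contra h0
      exact Set.eq_empty_iff_forall_notMem.1 (he.2.trans hemp) _ (Set.mem_range_self ⟨0, Nat.pos_of_ne_zero h0⟩)
    have h1 : 𝟙 U = (1 : U ⟶ U) := by
      rw [← key 1 (MonObj.one_comp iU), MonObj.comp_one]
    refine hne ((Subgroup.eq_bot_iff_forall _).2 fun z hz => ?_)
    rw [← hl] at hz
    obtain ⟨y, -, rfl⟩ := hz
    refine Subtype.ext ?_
    show y.1 ≫ iU = 1
    rw [← Category.comp_id y.1, h1, MonObj.comp_one, MonObj.one_comp]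
  · obtain ⟨a, ha⟩ := Set.nonempty_iff_ne_empty.2 hemp
    obtain ⟨⟨w, hw⟩, hαa⟩ := hR a ha
    haveI : IsMonHom w := Groth.L19.AlgGrpBasic.isMonHom_of_points' w fun T x y => by
      rw [← cancel_mono iU, Category.assoc, hw, MonObj.mul_comp _ _ (D.u a), MonObj.mul_comp _ _ iU,
        Category.assoc, Category.assoc, hw]
    haveI : Mono w := by
      haveI : Mono (w ≫ iU) := hw ▸ inferInstance
      exact mono_of_mono w iU
    let sum := RedSub.prodMap (Red.Ga (Spec (CommRingCat.of k))) m
      fun _ => 𝟙 (Red.Ga (Spec (CommRingCat.of k)))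
    have hsum : (sum ≫ w) ≫ iU = RedSub.prodMap (Red.Ga (Spec (CommRingCat.of k))) m fun l => D.u (e l) := by
      simp only [sum, prodMap_comp, Category.id_comp, hw]
      congr 1
      funext l
      rw [hsing (e l) (he.2 ▸ Set.mem_range_self l) a ha]
    have h1 : (c₀ ≫ sum) ≫ w = 𝟙 U := by rw [Category.assoc, key (sum ≫ w) hsum]
    refine ⟨a, hαa.symm, ⟨w, c₀ ≫ sum, ?_, h1⟩, ‹IsMonHom w›, hw⟩
    rw [← cancel_mono w, Category.assoc, h1, Category.comp_id, Category.id_comp]

end Groth.L14.RootGrp
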