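import Groth.Agent.L06.RootLines.Roots
import Groth.Agent.L25.GaPts
import Groth.Agent.S14754

/-!
# Tangent vectors of root groups
-/

set_option autoImplicit false
set_option linter.unusedSectionVars false
set_option linter.style.haveILetI false
set_option linter.deprecated false
set_option backward.isDefEq.respectTransparency.types false
set_option maxHeartbeats 1000000

universe u

open CategoryTheory CategoryTheory.Limits MonoidalCategory CartesianMonoidalCategory MonObj GrpObj AlgebraicGeometry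
open Groth.L25 Groth.L06.RootLines LieS
open Groth.L06.CoxeterElt (TT TB)

noncomputable section

namespace Groth.L14.RootGrp

variable {k : Type u} [Field k]

local notation "SK" => Spec (CommRingCat.of k)
local notation "f₀" => Spec.map (CommRingCat.ofHom (algebraMap k k))

variable {G T : Over (Spec (CommRingCat.of k))} [GrpObj G] [GrpObj T] {i : T ⟶ G}

/-- vectors of two different weights vanish -/
theorem eq_one_of_weights (C : Coords G T i) {α β : T ⟶ Red.Gm SK} [IsMonHom α] [IsMonHom β] (h : α ≠ β)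
    {z : LieS.LieR G k} (hα : z ∈ LieWt.weightSpOf i α k) (hβ : z ∈ LieWt.weightSpOf i β k) : z = 1 := by
  obtain ⟨m, rfl⟩ := C.exists_ch α
  obtain ⟨n, rfl⟩ := C.exists_ch β
  have hmn : m ≠ n := fun e => h (by rw [e])
  have h1 := (mem_weightSpOf_iff C.e C.hφ m z).1 hα
  have h2 := (mem_weightSpOf_iff C.e C.hφ n z).1 hβ
  have h0 : wOf C.eq z.1 = 0 := LinearMap.ext fun a => by
    rw [← Wt_apply C.φ h1 a]; exact h2.2 m a hmn
  refine wOf_injective C.eq (show wOf C.eq z.1 = wOf C.eq (1 : LieS.LieR G k).1 from ?_)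
  have h3 := wOf_mul C.eq (1 : LieS.LieR G k) 1
  rw [_root_.mul_one] at h3
  rw [h0, left_eq_add.1 h3]

theorem chiVal_one {B : Type u} [CommRing B] [Algebra k B] (t : VecGrp.pt k B ⟶ T) :
    VecGrp.chiVal (1 : T ⟶ Red.Gm SK) t = 1 := by
  show (Scheme.ΓSpecIso (CommRingCat.of B)).hom (Red.gmFn (t ≫ 1)) = 1
  rw [MonObj.comp_one, _root_.GmPts.gmFn_one, map_one]

/-- the torus fixes its own vectors -/
theorem map_mem_fixed [IsMonHom i] (hcomm : ∀ (X : Over SK) (a b : X ⟶ T), a * b = b * a) (z : LieS.LieR T k) :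
    LieS.map k f₀ i z ∈ LieWt.weightSpOf i (1 : T ⟶ Red.Gm SK) k := by
  intro B' _ _ φ t
  simp only [chiVal_one, LieWt.one_rescale]
  refine Subtype.ext ?_
  show (proj _ _ ≫ (VecGrp.ptIso φ).hom ≫ t ≫ i) * (dptMap _ φ.toRingHom ≫ z.1 ≫ i) *
    (proj _ _ ≫ (VecGrp.ptIso φ).hom ≫ t ≫ i)⁻¹ = dptMap _ φ.toRingHom ≫ z.1 ≫ i
  have e : ∀ {X : Over SK} (a b : X ⟶ T), (a ≫ i) * (b ≫ i) * (a ≫ i)⁻¹ = b ≫ i := fun a b => by
    rw [← MonObj.mul_comp, hcomm, MonObj.mul_comp, mul_inv_cancel_right]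
  simpa only [Category.assoc] using e (proj _ _ ≫ (VecGrp.ptIso φ).hom ≫ t) (dptMap _ φ.toRingHom ≫ z.1)

/-- the dual number point of the additive group -/
def epsPt (B : Type u) [CommRing B] {S : Scheme.{u}} (f : Spec (CommRingCat.of B) ⟶ S) : dpt B f ⟶ Red.Ga S :=
  GaPts.ptOfElt ((Scheme.ΓSpecIso (CommRingCat.of (DualNumber B))).inv DualNumber.eps)

theorem appTop_inv {R R' : Type u} [CommRing R] [CommRing R'] (h : R →+* R') (x : R) :
    (Spec.map (CommRingCat.ofHom h)).appTop ((Scheme.ΓSpecIso (CommRingCat.of R)).inv x) =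
      (Scheme.ΓSpecIso (CommRingCat.of R')).inv (h x) :=
  (ConcreteCategory.congr_hom (Scheme.ΓSpecIso_inv_naturality (CommRingCat.ofHom h)) x).symm

theorem epsPt_mem : zeroSec k f₀ ≫ epsPt k f₀ = 1 := by
  refine GaPts.gaFn_injective ?_
  simp only [GaPts.gaFn_comp, epsPt, GaPts.gaFn_ptOfElt]
  show (Spec.map (CommRingCat.ofHom (TrivSqZeroExt.fstHom k k k).toRingHom)).appTop _ = _
  rw [appTop_inv, GaPts.gaFn_one]
  simp

/-- the tangent vector of a homomorphism from the additive group -/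
def tanVec (v : Red.Ga SK ⟶ G) [IsMonHom v] : LieS.LieR G k :=
  ⟨epsPt k f₀ ≫ v, by rw [mem_Lie_iff, ← Category.assoc, epsPt_mem, MonObj.one_comp]⟩

theorem tanVec_ne_one (v : Red.Ga SK ⟶ G) [IsMonHom v] [Mono v] : tanVec v ≠ 1 := by
  intro h
  have h1 : epsPt k f₀ ≫ v = 1 := congrArg Subtype.val h
  rw [← MonObj.one_comp v, cancel_mono, epsPt] at h1
  have h2 := congrArg Red.gaFn h1
  rw [GaPts.gaFn_ptOfElt, GaPts.gaFn_one] at h2
  have h3 : (DualNumber.eps : DualNumber k) = 0 := by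
    have h4 := congrArg ⇑(Scheme.ΓSpecIso (CommRingCat.of (DualNumber k))).hom.hom h2
    exact (Iso.inv_hom_id_apply (Scheme.ΓSpecIso (CommRingCat.of (DualNumber k))) _).symm.trans (h4.trans (map_zero _))
  exact one_ne_zero (congrArg TrivSqZeroExt.snd h3)

section Eps

variable {B : Type u} [CommRing B] {S : Scheme.{u}} (f : Spec (CommRingCat.of B) ⟶ S)

theorem gaFn_eps : Red.gaFn (epsPt B f) = (Scheme.ΓSpecIso (CommRingCat.of (DualNumber B))).inv DualNumber.eps :=
  GaPts.gaFn_ptOfElt _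

theorem gaFn_scale_eps (c : B) : Red.gaFn (scale B f c ≫ epsPt B f) =
    (Scheme.ΓSpecIso (CommRingCat.of (DualNumber B))).inv (algebraMap B (DualNumber B) c * DualNumber.eps) := by
  rw [GaPts.gaFn_comp, gaFn_eps]
  refine (appTop_inv (scaleHom c) DualNumber.eps).trans (congrArg _ ?_)
  simp [scaleHom]

theorem gaFn_dptMap_eps {B' : Type u} [CommRing B'] (h : B →+* B') : Red.gaFn (dptMap f h ≫ epsPt B f) =
    (Scheme.ΓSpecIso (CommRingCat.of (DualNumber B'))).inv DualNumber.eps := by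
  rw [GaPts.gaFn_comp, gaFn_eps]
  refine (appTop_inv (bcHom h) DualNumber.eps).trans (congrArg _ ?_)
  simp [bcHom]

theorem gaFn_scale_dptMap_eps {B' : Type u} [CommRing B'] (h : B →+* B') (c : B') :
    Red.gaFn ((scale B' (Spec.map (CommRingCat.ofHom h) ≫ f) c ≫ dptMap f h) ≫ epsPt B f) =
      (Scheme.ΓSpecIso (CommRingCat.of (DualNumber B'))).inv (algebraMap B' (DualNumber B') c * DualNumber.eps) := by
  rw [Category.assoc, GaPts.gaFn_comp, gaFn_dptMap_eps]
  refine (appTop_inv (scaleHom c) DualNumber.eps).trans (congrArg _ ?_)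
  simp [scaleHom]

theorem gmFn_proj (s : pt B f ⟶ Red.Gm S) :
    Red.gmFn (proj B f ≫ s) = (Scheme.ΓSpecIso (CommRingCat.of (DualNumber B))).inv
      (algebraMap B (DualNumber B) ((Scheme.ΓSpecIso (CommRingCat.of B)).hom (Red.gmFn s))) := by
  rw [GmPts.gmFn_comp]
  refine Eq.trans ?_ (appTop_inv (algebraMap B (DualNumber B)) _)
  exact congrArg _ (Iso.hom_inv_id_apply _ _).symm

end Eps

/-- the tangent vector of a root homomorphism has the weight of the root -/
theorem tanVec_mem {χ : T ⟶ Red.Gm SK} {v : Red.Ga SK ⟶ G} [IsMonHom v] (h : Red.IsRootHom i χ v) :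
    tanVec v ∈ LieWt.weightSpOf i χ k := by
  intro B' _ _ φ t
  refine Subtype.ext ?_
  let P := proj B' (Spec.map (CommRingCat.ofHom φ.toRingHom) ≫ f₀) ≫ (VecGrp.ptIso φ).hom ≫ t
  obtain ⟨y, hy, hy'⟩ := h.2.2 _ P (dptMap f₀ φ.toRingHom ≫ epsPt k f₀)
  show (proj _ _ ≫ (VecGrp.ptIso φ).hom ≫ t ≫ i) * (dptMap _ φ.toRingHom ≫ epsPt k f₀ ≫ v) *
    (proj _ _ ≫ (VecGrp.ptIso φ).hom ≫ t ≫ i)⁻¹ =
      scale B' _ (VecGrp.chiVal χ t) ≫ dptMap _ φ.toRingHom ≫ epsPt k f₀ ≫ v
  simp only [P, Category.assoc] at hy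
  rw [← hy]
  simp only [← Category.assoc]
  refine congrArg (· ≫ v) (GaPts.gaFn_injective ?_)
  refine hy'.trans ?_
  refine Eq.trans ?_ (gaFn_scale_dptMap_eps f₀ φ.toRingHom (VecGrp.chiVal χ t)).symm
  rw [gaFn_dptMap_eps, Category.assoc]
  show Red.gmFn (proj B' _ ≫ ((VecGrp.ptIso φ).hom ≫ t) ≫ χ) * _ = _
  rw [gmFn_proj]
  refine (map_mul (Scheme.ΓSpecIso (CommRingCat.of (DualNumber B'))).inv.hom _ _).symm.trans ?_
  refine congrArg (fun z => (Scheme.ΓSpecIso (CommRingCat.of (DualNumber B'))).inv (algebraMap B' (DualNumber B') z * DualNumber.eps)) ?_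
  rw [Category.assoc, GmPts.gmFn_comp]
  exact congrArg _ (congrArg (fun q => q (Red.gmFn (t ≫ χ))) Scheme.Hom.id_appTop)

/-- tangent vectors of a subgroup through which a homomorphism factors -/
theorem tanVec_mem_range {U : Over SK} [GrpObj U] {u : U ⟶ G} [IsMonHom u] [Mono u] {v : Red.Ga SK ⟶ G} [IsMonHom v]
    {w : Red.Ga SK ⟶ U} (hw : w ≫ u = v) : tanVec v ∈ Subgroup.map (LieS.map k f₀ u) ⊤ := by
  refine ⟨⟨epsPt k f₀ ≫ w, (mem_Lie_iff U k f₀ _).2 ?_⟩, trivial, Subtype.ext ?_⟩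
  · rw [← cancel_mono u, Category.assoc, Category.assoc, hw, ← Category.assoc, epsPt_mem, MonObj.one_comp,
      MonObj.one_comp]
  · show (epsPt k f₀ ≫ w) ≫ u = epsPt k f₀ ≫ v
    rw [Category.assoc, hw]

end Groth.L14.RootGrp
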